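import Mathlib

/-! Finite commutative algebras over an algebraically closed field. -/

set_option autoImplicit false
universe u v w

namespace Groth.Agent.FinAlgClosed

variable (k : Type u) [Field k] [IsAlgClosed k] (A : Type v) [CommRing A] [Algebra k A]
  [Module.Finite k A]

theorem algebraMap_quot_bijective (m : Ideal A) [m.IsMaximal] :
    Function.Bijective (algebraMap k (A ⧸ m)) := by
  have : IsDomain (A ⧸ m) := Ideal.Quotient.isDomain m
  exact IsAlgClosed.algebraMap_bijective_of_isIntegral

/-- The `k`-point of a maximal ideal. -/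
noncomputable def point (m : Ideal A) [m.IsMaximal] : A →ₐ[k] k :=
  ((AlgEquiv.ofBijective (Algebra.ofId k (A ⧸ m)) (algebraMap_quot_bijective k A m)).symm :
    (A ⧸ m) →ₐ[k] k).comp (Ideal.Quotient.mkₐ k m)

theorem point_eq_zero_iff (m : Ideal A) [m.IsMaximal] (a : A) : point k A m a = 0 ↔ a ∈ m := by
  simp only [point, AlgHom.comp_apply, AlgEquiv.coe_algHom,
    map_eq_zero_iff _ (AlgEquiv.injective _), Ideal.Quotient.mkₐ_eq_mk,
    Ideal.Quotient.eq_zero_iff_mem]

theorem sub_point_mem (m : Ideal A) [m.IsMaximal] (a : A) :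
    a - algebraMap k A (point k A m a) ∈ m := by
  rw [← point_eq_zero_iff k A m, map_sub, AlgHom.commutes]
  exact sub_self _

theorem exists_pi_algEquiv [IsReduced A] :
    Nonempty (A ≃ₐ[k] (MaximalSpectrum A → k)) := by
  have : IsArtinianRing A := IsArtinianRing.of_finite k A
  exact ⟨((IsArtinianRing.equivPi A).restrictScalars k).trans <| AlgEquiv.piCongrRight fun m =>
    (AlgEquiv.ofBijective (Algebra.ofId k _) (algebraMap_quot_bijective k A m.asIdeal)).symm⟩

theorem formallyEtale_of_isReduced [IsReduced A] : Algebra.FormallyEtale k A := by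
  have : IsArtinianRing A := IsArtinianRing.of_finite k A
  obtain ⟨e⟩ := exists_pi_algEquiv k A
  have : Algebra.FormallyEtale k (MaximalSpectrum A → k) :=
    (Algebra.FormallyEtale.pi_iff _).mpr fun _ => inferInstance
  exact Algebra.FormallyEtale.of_equiv e.symm

include k in
theorem isNilpotent_nilradical : IsNilpotent (nilradical A) := by
  have : IsArtinianRing A := IsArtinianRing.of_finite k A
  exact IsArtinianRing.isNilpotent_nilradical

theorem isReduced_quot_nilradical : IsReduced (A ⧸ nilradical A) :=
  (Ideal.isRadical_iff_quotient_reduced _).mp (Ideal.radical_isRadical _)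

theorem existsUnique_section :
    ∃! s : (A ⧸ nilradical A) →ₐ[k] A,
      (Ideal.Quotient.mkₐ k (nilradical A)).comp s = AlgHom.id k (A ⧸ nilradical A) := by
  have := isReduced_quot_nilradical A
  have := formallyEtale_of_isReduced k (A ⧸ nilradical A)
  refine ⟨Algebra.FormallySmooth.lift _ (isNilpotent_nilradical k A) (AlgHom.id k _),
    Algebra.FormallySmooth.comp_lift _ _ _, fun s hs => ?_⟩
  refine Algebra.FormallyUnramified.ext _ (isNilpotent_nilradical k A) fun x => ?_
  exact (AlgHom.congr_fun hs x).trans
    (AlgHom.congr_fun (Algebra.FormallySmooth.comp_lift (nilradical A)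
      (isNilpotent_nilradical k A) (AlgHom.id k (A ⧸ nilradical A))) x).symm

theorem exists_greatest_reduced_subalgebra :
    ∃ B : Subalgebra k A, IsReduced ↥B ∧ (∀ C : Subalgebra k A, IsReduced ↥C → C ≤ B) ∧
      Function.Bijective ((Ideal.Quotient.mkₐ k (nilradical A)).comp B.val) := by
  obtain ⟨s, hs, -⟩ := existsUnique_section k A
  have hs' : ∀ x, Ideal.Quotient.mkₐ k (nilradical A) (s x) = x := AlgHom.congr_fun hs
  refine ⟨s.range, ?_, ?_, ?_, ?_⟩
  · constructor
    rintro ⟨_, x, rfl⟩ ⟨n, hn⟩
    have h1 : s x ^ n = 0 := congrArg Subtype.val hn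
    have hx : x = 0 := by
      have : s x ∈ nilradical A := ⟨n, h1⟩
      rw [← hs' x]; exact Ideal.Quotient.eq_zero_iff_mem.mpr this
    apply Subtype.ext; simp [hx]
  · intro C hC c hc
    have := formallyEtale_of_isReduced k C
    have h : C.val = (s.comp (Ideal.Quotient.mkₐ k (nilradical A))).comp C.val :=
      Algebra.FormallyUnramified.ext _ (isNilpotent_nilradical k A) fun x => (hs' _).symm
    exact ⟨_, (AlgHom.congr_fun h ⟨c, hc⟩).symm⟩
  · rintro ⟨_, x, rfl⟩ ⟨_, y, rfl⟩ h
    have hxy : x = y := by rw [← hs' x, ← hs' y]; exact h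
    simp [hxy]
  · exact fun x => ⟨⟨s x, x, rfl⟩, hs' x⟩

theorem nilradical_eq_point_ker (a : A) :
    a ∈ nilradical A ↔ ∀ f : A →ₐ[k] k, f a = 0 := by
  constructor
  · exact fun h f => IsNilpotent.eq_zero (IsNilpotent.map h f)
  · intro h
    rw [nilradical_eq_sInf, Ideal.mem_sInf]
    intro p hp
    have : IsArtinianRing A := IsArtinianRing.of_finite k A
    have : p.IsPrime := hp
    have : p.IsMaximal := IsArtinianRing.isMaximal_of_isPrime p
    exact (point_eq_zero_iff k A p a).mp (h _)

theorem pow_char_pow_bijective_iff (p : ℕ) [Fact p.Prime] [CharP k p] (n : ℕ) (hn : 1 ≤ n) :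
    Function.Bijective (fun a : A => a ^ p ^ n) ↔ IsReduced A := by
  have hp : 1 < p ^ n := Nat.one_lt_pow (by omega) (Fact.out (p := p.Prime)).one_lt
  constructor
  · intro h
    refine (isReduced_iff_pow_one_lt (p ^ n) hp).mpr fun x hx => ?_
    exact h.1 (by simpa [zero_pow (by omega : p ^ n ≠ 0)] using hx)
  · intro h
    obtain ⟨e⟩ := exists_pi_algEquiv k A
    have hk : Function.Bijective (fun x : k => x ^ p ^ n) := (iterateFrobeniusEquiv k p n).bijective
    refine ⟨fun a b hab => e.injective (funext fun i => hk.1 ?_), fun a => ?_⟩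
    · have := congrFun (congrArg e hab) i
      simpa using this
    · choose g hg using fun i => hk.2 (e a i)
      refine ⟨e.symm g, e.injective (funext fun i => ?_)⟩
      simpa using hg i

theorem subsingleton_derivation_iff :
    Subsingleton (Derivation k A A) ↔ IsReduced A := by
  have : IsArtinianRing A := IsArtinianRing.of_finite k A
  constructor
  · intro hD
    by_contra hred
    have hne : ∃ m : MaximalSpectrum A, m.asIdeal * m.asIdeal ≠ m.asIdeal := by
      by_contra! hall
      refine hred (isReduced_iff _ |>.mpr fun x hx => ?_)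
      have hN : ∀ j, nilradical A ^ (j + 1) = nilradical A := by
        intro j
        rw [IsArtinianRing.nilradical_pow_eq_iInf, IsArtinianRing.nilradical_eq_iInf]
        congr 1; funext m
        induction j with
        | zero => rw [pow_one]
        | succ j ih => rw [pow_succ, ih, hall]
      obtain ⟨j, hj⟩ := IsArtinianRing.isNilpotent_nilradical (R := A)
      have hx' : x ∈ nilradical A := hx
      rw [← hN j, pow_succ, hj, zero_mul] at hx'
      exact hx'
    obtain ⟨m, hm⟩ := hne
    have hmin : m.asIdeal ∈ (Module.annihilator A A).minimalPrimes := by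
      refine ⟨⟨m.isMaximal.isPrime, by rw [Module.annihilator_eq_bot.mpr inferInstance]; exact bot_le⟩, fun q hq hle => ?_⟩
      have := hq.1
      exact ((IsArtinianRing.isMaximal_of_isPrime q).eq_of_le m.isMaximal.ne_top hle).ge
    obtain ⟨-, s, hs⟩ := isAssociatedPrime_iff.mp
      (Module.associatedPrimes.minimalPrimes_annihilator_subset_associatedPrimes A A hmin)
    have hms : ∀ a ∈ m.asIdeal, a * s = 0 := fun a ha => by
      rw [hs, Submodule.mem_colon_singleton] at ha; simpa using ha
    have hs0 : s ≠ 0 := fun h => m.isMaximal.ne_top (by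
      rw [hs, Ideal.eq_top_iff_one, Submodule.mem_colon_singleton]; simp [h])
    obtain ⟨x, hxm, hx⟩ := SetLike.exists_of_lt (lt_of_le_of_ne Ideal.mul_le_right hm)
    obtain ⟨φ, hφx, hφ⟩ := Submodule.exists_dual_map_eq_bot_of_notMem
      (p := (m.asIdeal * m.asIdeal).restrictScalars k) hx inferInstance
    have hφ0 : ∀ y ∈ m.asIdeal * m.asIdeal, φ y = 0 := fun y hy => by
      have : φ y ∈ ((m.asIdeal * m.asIdeal).restrictScalars k).map φ := Submodule.mem_map_of_mem hy
      rwa [hφ, Submodule.mem_bot] at this
    let π := point k A m.asIdeal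
    let ψ : A →ₗ[k] k := φ ∘ₗ (LinearMap.id - (Algebra.linearMap k A).comp π.toLinearMap)
    have hψ : ∀ a, ψ a = φ (a - algebraMap k A (π a)) := fun a => rfl
    have hleib : ∀ a b, ψ (a * b) = π a * ψ b + π b * ψ a := by
      intro a b
      have h0 := hφ0 _ (Ideal.mul_mem_mul (sub_point_mem k A m.asIdeal a) (sub_point_mem k A m.asIdeal b))
      rw [hψ, hψ, hψ, map_mul]
      have e : a * b - algebraMap k A (π a * π b) =
          (a - algebraMap k A (π a)) * (b - algebraMap k A (π b))
          + π a • (b - algebraMap k A (π b)) + π b • (a - algebraMap k A (π a)) := by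
        rw [Algebra.smul_def, Algebra.smul_def, map_mul]; ring
      rw [e, map_add, map_add, map_smul, map_smul, h0, zero_add, smul_eq_mul, smul_eq_mul]
    have hmul : ∀ a, a * s = algebraMap k A (π a) * s := fun a => by
      have := hms _ (sub_point_mem k A m.asIdeal a)
      rwa [sub_mul, sub_eq_zero] at this
    let D : Derivation k A A := Derivation.mk' (ψ.smulRight s) fun a b => by
      simp only [LinearMap.smulRight_apply, hleib, smul_eq_mul, add_smul, mul_smul]
      rw [Algebra.mul_smul_comm, Algebra.mul_smul_comm, hmul a, hmul b, ← Algebra.smul_def,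
        ← Algebra.smul_def, smul_comm (ψ b), smul_comm (ψ a)]
    have h0 : D x = 0 := by rw [Subsingleton.elim D 0]; rfl
    have hπx : π x = 0 := (point_eq_zero_iff k A _ x).mpr hxm
    have hψx : ψ x = φ x := by rw [hψ, hπx, map_zero, sub_zero]
    change ψ x • s = 0 at h0
    rw [hψx] at h0
    rcases smul_eq_zero.mp h0 with h | h
    · exact hφx h
    · exact hs0 h
  · intro h
    have := formallyEtale_of_isReduced k A
    refine ⟨fun D D' => ?_⟩
    exact (KaehlerDifferential.linearMapEquivDerivation k A).symm.injective (Subsingleton.elim _ _)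

end Groth.Agent.FinAlgClosed
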